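import Groth.Prelude.Def_ParaF
import Groth.Agent.TMul.RelAmple

/-!
# Restriction of invertible modules: composition and cancellation
-/

universe u

open CategoryTheory AlgebraicGeometry TopologicalSpace

namespace Groth.Agent.ParaFLib

variable {U V W : Scheme.{u}}

lemma restrict_map_comp (i : U ⟶ V) (j : V ⟶ W) [IsOpenImmersion i] [IsOpenImmersion j]
    {L L' : W.Modules} (φ : L ⟶ L') :
    (Scheme.Modules.restrictFunctor (i ≫ j)).map φ =
      (Scheme.Modules.restrictFunctorComp i j).hom.app L ≫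
        (Scheme.Modules.restrictFunctor i).map ((Scheme.Modules.restrictFunctor j).map φ) ≫
          (Scheme.Modules.restrictFunctorComp i j).inv.app L' := by
  rw [← Functor.comp_map, ← NatTrans.naturality_assoc]
  simp

lemma bijective_comp_iff (i : U ⟶ V) (j : V ⟶ W) [IsOpenImmersion i] [IsOpenImmersion j]
    (L L' : W.Modules)
    (hi : Function.Bijective fun ψ : L.restrict j ⟶ L'.restrict j => (Scheme.Modules.restrictFunctor i).map ψ) :
    (Function.Bijective fun φ : L ⟶ L' => (Scheme.Modules.restrictFunctor (i ≫ j)).map φ) ↔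
      Function.Bijective fun φ : L ⟶ L' => (Scheme.Modules.restrictFunctor j).map φ := by
  let e₁ := (Scheme.Modules.restrictFunctorComp i j).app L
  let e₂ := (Scheme.Modules.restrictFunctorComp i j).app L'
  have h : (fun φ : L ⟶ L' => (Scheme.Modules.restrictFunctor (i ≫ j)).map φ) =
      (fun ψ => e₁.hom ≫ ψ ≫ e₂.inv) ∘ (fun ψ : L.restrict j ⟶ L'.restrict j => (Scheme.Modules.restrictFunctor i).map ψ) ∘
        fun φ : L ⟶ L' => (Scheme.Modules.restrictFunctor j).map φ :=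
    funext fun φ => restrict_map_comp i j φ
  have hc : Function.Bijective fun ψ => e₁.hom ≫ ψ ≫ e₂.inv :=
    ⟨fun a b hab => (cancel_mono e₂.inv).1 ((cancel_epi e₁.hom).1 hab),
      fun b => ⟨e₁.inv ≫ b ≫ e₂.hom, by simp⟩⟩
  rw [h, Function.Bijective.of_comp_iff' hc, Function.Bijective.of_comp_iff' hi]

theorem invRestrictEquiv_comp (i : U ⟶ V) (j : V ⟶ W) [IsOpenImmersion i] [IsOpenImmersion j]
    (hi : ParaF.InvRestrictEquiv i) (hj : ParaF.InvRestrictEquiv j) :
    ParaF.InvRestrictEquiv (i ≫ j) := by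
  refine ⟨fun L L' hL hL' => (bijective_comp_iff i j L L'
    (hi.1 _ _ (TMul.isInvertible_restrict j hL) (TMul.isInvertible_restrict j hL'))).2 (hj.1 L L' hL hL'),
    fun L₀ hL₀ => ?_⟩
  obtain ⟨M, hM, ⟨e⟩⟩ := hi.2 L₀ hL₀
  obtain ⟨L, hL, ⟨e'⟩⟩ := hj.2 M hM
  exact ⟨L, hL, ⟨(Scheme.Modules.restrictFunctorComp i j).app L ≪≫
    (Scheme.Modules.restrictFunctor i).mapIso e' ≪≫ e⟩⟩

/-- Restriction detects isomorphy of invertible modules. -/
lemma nonempty_iso_of_restrict (i : U ⟶ V) [IsOpenImmersion i] (hi : ParaF.InvRestrictEquiv i)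
    {L L' : V.Modules} (hL : PicF.IsInvertible L) (hL' : PicF.IsInvertible L')
    (e : L.restrict i ≅ L'.restrict i) : Nonempty (L ≅ L') := by
  obtain ⟨φ, hφ⟩ := (hi.1 L L' hL hL').2 e.hom
  obtain ⟨ψ, hψ⟩ := (hi.1 L' L hL' hL).2 e.inv
  refine ⟨⟨φ, ψ, (hi.1 L L hL hL).1 ?_, (hi.1 L' L' hL' hL').1 ?_⟩⟩
  · simp only [Functor.map_comp, CategoryTheory.Functor.map_id]
    exact (congr_arg₂ (· ≫ ·) hφ hψ).trans e.hom_inv_id
  · simp only [Functor.map_comp, CategoryTheory.Functor.map_id]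
    exact (congr_arg₂ (· ≫ ·) hψ hφ).trans e.inv_hom_id

theorem invRestrictEquiv_of_comp (i : U ⟶ V) (j : V ⟶ W) [IsOpenImmersion i] [IsOpenImmersion j]
    (hi : ParaF.InvRestrictEquiv i) (hij : ParaF.InvRestrictEquiv (i ≫ j)) :
    ParaF.InvRestrictEquiv j := by
  refine ⟨fun L L' hL hL' => (bijective_comp_iff i j L L'
    (hi.1 _ _ (TMul.isInvertible_restrict j hL) (TMul.isInvertible_restrict j hL'))).1 (hij.1 L L' hL hL'),
    fun M hM => ?_⟩
  obtain ⟨L, hL, ⟨e⟩⟩ := hij.2 _ (TMul.isInvertible_restrict i hM)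
  exact ⟨L, hL, nonempty_iso_of_restrict i hi (TMul.isInvertible_restrict j hL) hM
    (((Scheme.Modules.restrictFunctorComp i j).app L).symm ≪≫ e)⟩

/-- Restriction along an isomorphism is an equivalence. -/
theorem invRestrictEquiv_of_isIso (i : U ⟶ V) [IsIso i] : ParaF.InvRestrictEquiv i := by
  let R := Scheme.Modules.restrictFunctor i
  let R' := Scheme.Modules.restrictFunctor (inv i)
  let η : R ⋙ R' ≅ 𝟭 _ := (Scheme.Modules.restrictFunctorComp (inv i) i).symm ≪≫
    Scheme.Modules.restrictFunctorCongr (IsIso.inv_hom_id i) ≪≫ Scheme.Modules.restrictFunctorId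
  let η' : R' ⋙ R ≅ 𝟭 _ := (Scheme.Modules.restrictFunctorComp i (inv i)).symm ≪≫
    Scheme.Modules.restrictFunctorCongr (IsIso.hom_inv_id i) ≪≫ Scheme.Modules.restrictFunctorId
  let E : V.Modules ≌ U.Modules := CategoryTheory.Equivalence.mk R R' η.symm η'
  refine ⟨fun L L' _ _ => E.fullyFaithfulFunctor.map_bijective L L', fun L₀ hL₀ => ?_⟩
  exact ⟨L₀.restrict (inv i), TMul.isInvertible_restrict (inv i) hL₀, ⟨η'.app L₀⟩⟩

/-- Transport along isomorphisms. -/
theorem invRestrictEquiv_of_square {U' V' : Scheme.{u}} (j : U ⟶ V) [IsOpenImmersion j]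
    (j' : U' ⟶ V') [IsOpenImmersion j'] (a : U' ⟶ U) [IsIso a] (b : V' ⟶ V) [IsIso b]
    (h : j' ≫ b = a ≫ j) (hj : ParaF.InvRestrictEquiv j) : ParaF.InvRestrictEquiv j' := by
  have h1 := invRestrictEquiv_comp (a ≫ j) (inv b)
    (invRestrictEquiv_comp a j (invRestrictEquiv_of_isIso a) hj) (invRestrictEquiv_of_isIso (inv b))
  have e : j' = (a ≫ j) ≫ inv b := by rw [← h, Category.assoc, IsIso.hom_inv_id, Category.comp_id]
  subst e
  exact h1

end Groth.Agent.ParaFLib
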