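import Groth.Agent.ParaFLib.Unit
import Groth.Agent.ParaFLib.Basic

/-!
# Extension of invertible modules across a closed subset: local nature
-/

universe u

open CategoryTheory AlgebraicGeometry TopologicalSpace Opposite
open Groth.Agent.QC (res resO res_res res_self res_smul resO_resO section_eq_of_locally)

set_option backward.isDefEq.respectTransparency false

noncomputable section

namespace Groth.Agent.ParaFLib

variable {U V W X : Scheme.{u}}

/-- Sections over any open extend uniquely from its part in `O`. -/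
def SecBij (O : X.Opens) (M : X.Modules) : Prop :=
  ∀ V : X.Opens, Function.Bijective (res M (inf_le_left : V ⊓ O ≤ V))

lemma isInvertible_of_iso {L L' : X.Modules} (e : L ≅ L') (h : PicF.IsInvertible L) :
    PicF.IsInvertible L' := fun x => by
  obtain ⟨N, hx, ⟨i⟩⟩ := h x
  exact ⟨N, hx, ⟨(Scheme.Modules.restrictFunctor N.ι).mapIso e.symm ≪≫ i⟩⟩

theorem secBij_of_local (O : X.Opens) (M : X.Modules)
    (h : ∀ x : X, ∃ N : X.Opens, x ∈ N ∧ ∀ V ≤ N, Function.Bijective (res M (inf_le_left : V ⊓ O ≤ V))) :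
    SecBij O M := by
  choose N hxN hN using h
  intro V
  have hinj : ∀ V : X.Opens, Function.Injective (res M (inf_le_left : V ⊓ O ≤ V)) := fun V s t hst =>
    section_eq_of_locally fun x hx => ⟨V ⊓ N x, inf_le_left, ⟨hx, hxN x⟩, (hN x _ inf_le_right).1 (by
      have := congrArg (res M (le_inf (inf_le_left.trans inf_le_left) inf_le_right :
        (V ⊓ N x) ⊓ O ≤ V ⊓ O)) hst
      rw [res_res] at this ⊢
      rw [res_res] at this
      rw [res_res]
      exact this)⟩
  refine ⟨hinj V, fun s => ?_⟩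
  choose t ht using fun x : X => (hN x _ (inf_le_right : V ⊓ N x ≤ N x)).2
    (res M (le_inf (inf_le_left.trans inf_le_left) inf_le_right : (V ⊓ N x) ⊓ O ≤ V ⊓ O) s)
  obtain ⟨g, hg, -⟩ := TopCat.Sheaf.existsUnique_gluing' (⟨M.presheaf, M.isSheaf⟩ : TopCat.Sheaf Ab.{u} X)
    (fun x : X => V ⊓ N x) V (fun x => homOfLE inf_le_left)
    (fun x hx => Opens.mem_iSup.mpr ⟨x, hx, hxN x⟩) t (fun x y => by
      show res M (inf_le_left : (V ⊓ N x) ⊓ (V ⊓ N y) ≤ _) (t x) = res M inf_le_right (t y)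
      apply hinj
      rw [res_res, res_res]
      have e1 := congrArg (res M (le_inf (inf_le_left.trans inf_le_left) inf_le_right :
        ((V ⊓ N x) ⊓ (V ⊓ N y)) ⊓ O ≤ (V ⊓ N x) ⊓ O)) (ht x)
      have e2 := congrArg (res M (le_inf (inf_le_left.trans inf_le_right) inf_le_right :
        ((V ⊓ N x) ⊓ (V ⊓ N y)) ⊓ O ≤ (V ⊓ N y) ⊓ O)) (ht y)
      rw [res_res, res_res] at e1 e2
      exact e1.trans e2.symm)
  refine ⟨g, section_eq_of_locally fun x hx => ⟨(V ⊓ N x) ⊓ O, le_inf (inf_le_left.trans inf_le_left) inf_le_right,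
    ⟨⟨hx.1, hxN x⟩, hx.2⟩, ?_⟩⟩
  rw [← ht x, res_res]
  have := congrArg (res M (inf_le_left : (V ⊓ N x) ⊓ O ≤ V ⊓ N x)) (hg x)
  refine Eq.trans ?_ this
  exact (res_res M _ _ g).symm

theorem secBij_of_isInvertible {O : X.Opens} (hO : SecBij O (Coh.structureModule X)) {M : X.Modules}
    (hM : PicF.IsInvertible M) : SecBij O M := by
  refine secBij_of_local O M fun x => ?_
  obtain ⟨N, e, hxN, he⟩ := TMul.exists_isGen hM x
  refine ⟨N, hxN, fun V hV => ?_⟩
  have key : (res M (inf_le_left : V ⊓ O ≤ V)) ∘ (fun c : Γ(X, V) => c • res M hV e) =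
      (fun c : Γ(X, (V ⊓ O : X.Opens)) => c • res M (inf_le_left.trans hV) e) ∘
        (resO X (inf_le_left : V ⊓ O ≤ V)) := funext fun c => by
    simp only [Function.comp_apply, res_smul, res_res]
  refine (Function.Bijective.of_comp_iff _ (he V hV)).mp ?_
  rw [key]
  exact (he _ (inf_le_left.trans hV)).comp (hO V)

theorem secBij_pushforward (j : U ⟶ X) [IsOpenImmersion j] (L : U.Modules) :
    SecBij j.opensRange ((Scheme.Modules.pushforward j).obj L) := fun V => by
  have h1 : j ⁻¹ᵁ V ≤ j ⁻¹ᵁ (V ⊓ j.opensRange) := fun y hy => ⟨hy, ⟨y, rfl⟩⟩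
  have h2 : j ⁻¹ᵁ (V ⊓ j.opensRange) ≤ j ⁻¹ᵁ V := fun y hy => hy.1
  refine ⟨fun s t hst => ?_, fun s => ⟨res L h1 s, ?_⟩⟩
  · have h := congrArg (res L h1) (show res L h2 s = res L h2 t from hst)
    rw [res_res, res_res, res_self, res_self] at h
    exact h
  · change res L h2 (res L h1 s) = s
    rw [res_res, res_self]

lemma bijective_res_congr {M : X.Modules} {A B B' : X.Opens} (e : B = B') (h : B ≤ A) (h' : B' ≤ A) :
    Function.Bijective (res M h) ↔ Function.Bijective (res M h') := by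
  subst e; rfl

theorem SecBij.restrict {O : X.Opens} {M : X.Modules} (h : SecBij O M) (a : W ⟶ X) [IsOpenImmersion a] :
    SecBij (a ⁻¹ᵁ O) (M.restrict a) := fun V => by
  have e : a ''ᵁ (V ⊓ a ⁻¹ᵁ O) = a ''ᵁ V ⊓ O := by
    apply Opens.ext
    ext x
    constructor
    · rintro ⟨y, ⟨h1, h2⟩, rfl⟩
      exact ⟨⟨y, h1, rfl⟩, h2⟩
    · rintro ⟨⟨y, h1, rfl⟩, h2⟩
      exact ⟨y, ⟨h1, h2⟩, rfl⟩
  exact (bijective_res_congr e (a.image_mono inf_le_left) inf_le_left).mpr (h (a ''ᵁ V))

theorem isIso_unit_app (j : U ⟶ X) [IsOpenImmersion j] {M : X.Modules} (h : SecBij j.opensRange M) :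
    IsIso ((Scheme.Modules.restrictAdjunction j).unit.app M) := by
  rw [Scheme.Modules.Hom.isIso_iff_isIso_app]
  intro V
  rw [ConcreteCategory.isIso_iff_bijective]
  have e : j ''ᵁ (j ⁻¹ᵁ V) = V ⊓ j.opensRange := by
    rw [Scheme.Hom.image_preimage_eq_opensRange_inf, inf_comm]
  exact (bijective_res_congr e (j.image_preimage_le V) inf_le_left).mpr (h V)

theorem bijective_restrict_hom (j : U ⟶ X) [IsOpenImmersion j]
    (hO : SecBij j.opensRange (Coh.structureModule X)) (L : X.Modules) {L' : X.Modules}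
    (hL' : PicF.IsInvertible L') :
    Function.Bijective fun φ : L ⟶ L' => (Scheme.Modules.restrictFunctor j).map φ := by
  let adj := Scheme.Modules.restrictAdjunction j
  haveI := isIso_unit_app j (secBij_of_isInvertible hO hL')
  rw [← Function.Bijective.of_comp_iff' (adj.homEquiv L _).bijective]
  have key : (adj.homEquiv L _) ∘ (fun φ : L ⟶ L' => (Scheme.Modules.restrictFunctor j).map φ) =
      fun φ => φ ≫ adj.unit.app L' := funext fun φ => by
    simp only [Function.comp_apply, Adjunction.homEquiv_unit]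
    exact (adj.unit.naturality φ).symm
  rw [key]
  exact ⟨fun a b hab => (cancel_mono _).mp hab,
    fun b => ⟨b ≫ inv (adj.unit.app L'), by simp⟩⟩

/-- The criterion: bijective sections and invertible direct images. -/
theorem invRestrictEquiv_of (j : U ⟶ X) [IsOpenImmersion j]
    (hO : SecBij j.opensRange (Coh.structureModule X))
    (hp : ∀ L : U.Modules, PicF.IsInvertible L → PicF.IsInvertible ((Scheme.Modules.pushforward j).obj L)) :
    ParaF.InvRestrictEquiv j :=
  ⟨fun L _ _ hL' => bijective_restrict_hom j hO L hL', fun L₀ hL₀ => ⟨_, hp L₀ hL₀,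
    ⟨(Scheme.Modules.restrictFunctorAdjCounitIso j).app L₀⟩⟩⟩

theorem isInvertible_pushforward (j : U ⟶ X) [IsOpenImmersion j]
    (hO : SecBij j.opensRange (Coh.structureModule X)) (hj : ParaF.InvRestrictEquiv j)
    {L : U.Modules} (hL : PicF.IsInvertible L) :
    PicF.IsInvertible ((Scheme.Modules.pushforward j).obj L) := by
  obtain ⟨M, hM, ⟨e⟩⟩ := hj.2 L hL
  haveI := isIso_unit_app j (secBij_of_isInvertible hO hM)
  exact isInvertible_of_iso (asIso ((Scheme.Modules.restrictAdjunction j).unit.app M) ≪≫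
    (Scheme.Modules.pushforward j).mapIso e) hM

lemma exists_trivial_of_restrict (a : W ⟶ X) [IsOpenImmersion a] (F : X.Modules)
    (h : PicF.IsInvertible (F.restrict a)) (w : W) :
    ∃ N : X.Opens, a w ∈ N ∧ Nonempty ((Scheme.Modules.restrictFunctor N.ι).obj F ≅ Coh.structureModule (N : Scheme.{u})) := by
  obtain ⟨N, hwN, ⟨i⟩⟩ := h w
  refine ⟨a ''ᵁ N, ⟨w, hwN, rfl⟩, ?_⟩
  have hc : (a.isoImage N).inv ≫ N.ι ≫ a = (a ''ᵁ N).ι := by simp
  let c : ((a ''ᵁ N : X.Opens) : Scheme.{u}) ⟶ (N : Scheme.{u}) := (a.isoImage N).inv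
  haveI : IsOpenImmersion c := inferInstance
  obtain ⟨u⟩ := nonempty_restrictUnitIso c
  have hc' : c ≫ N.ι ≫ a = (a ''ᵁ N).ι := hc
  let e1 := (Scheme.Modules.restrictFunctorCongr hc'.symm).app F
  let e2 := (Scheme.Modules.restrictFunctorComp c (N.ι ≫ a)).app F
  let e3 : (Scheme.Modules.restrictFunctor (N.ι ≫ a)).obj F ≅ Coh.structureModule (N : Scheme.{u}) :=
    (Scheme.Modules.restrictFunctorComp N.ι a).app F ≪≫ i
  exact ⟨e1 ≪≫ e2 ≪≫ (Scheme.Modules.restrictFunctor c).mapIso e3 ≪≫ u⟩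

/-- local nature -/
theorem isInvertible_pushforward_of_local (j : U ⟶ X) [IsOpenImmersion j] {L : U.Modules}
    (hL : PicF.IsInvertible L)
    (h : ∀ x : X, ∃ (U' W : Scheme.{u}) (a : W ⟶ X) (_ : IsOpenImmersion a) (b : U' ⟶ U)
      (_ : IsOpenImmersion b) (j' : U' ⟶ W) (_ : IsOpenImmersion j'), b ≫ j = j' ≫ a ∧
        j'.opensRange = a ⁻¹ᵁ j.opensRange ∧ x ∈ a.opensRange ∧
        SecBij j'.opensRange (Coh.structureModule W) ∧ ParaF.InvRestrictEquiv j') :
    PicF.IsInvertible ((Scheme.Modules.pushforward j).obj L) := by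
  intro x
  obtain ⟨U', W, a, _, b, _, j', _, hsq, hr, hx, hO, hj⟩ := h x
  let F := (Scheme.Modules.pushforward j).obj L
  have h2 : SecBij j'.opensRange (F.restrict a) := hr ▸ (secBij_pushforward j L).restrict a
  haveI := isIso_unit_app j' h2
  haveI : IsOpenImmersion (j' ≫ a) := inferInstance
  let e : (F.restrict a).restrict j' ≅ L.restrict b :=
    ((Scheme.Modules.restrictFunctorComp j' a).app F).symm ≪≫
    (Scheme.Modules.restrictFunctorCongr hsq.symm).app F ≪≫
    (Scheme.Modules.restrictFunctorComp b j).app F ≪≫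
    (Scheme.Modules.restrictFunctor b).mapIso ((Scheme.Modules.restrictFunctorAdjCounitIso j).app L)
  have hinv : PicF.IsInvertible (F.restrict a) :=
    isInvertible_of_iso ((Scheme.Modules.pushforward j').mapIso e.symm ≪≫
      (asIso ((Scheme.Modules.restrictAdjunction j').unit.app (F.restrict a))).symm)
      (isInvertible_pushforward j' hO hj (TMul.isInvertible_restrict b hL))
  obtain ⟨w, rfl⟩ := hx
  exact exists_trivial_of_restrict a F hinv w

variable (Y : Closeds X)

lemma opensRange_homOfLE {A B : X.Opens} (h : A ≤ B) :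
    (X.homOfLE h).opensRange = B.ι ⁻¹ᵁ A := by
  apply Opens.ext
  ext x
  constructor
  · rintro ⟨y, rfl⟩
    show ((X.homOfLE h) y).1 ∈ A
    exact (Scheme.homOfLE_apply h y).symm ▸ y.2
  · intro hx
    exact ⟨⟨x.1, hx⟩, Subtype.ext (Scheme.homOfLE_apply h _)⟩

/-- Sections of functions on opens of `X` versus on opens of an open subscheme. -/
lemma secBij_structure_restrict {O : X.Opens} (h : SecBij O (Coh.structureModule X)) (B : X.Opens) :
    SecBij (B.ι ⁻¹ᵁ O) (Coh.structureModule (B : Scheme.{u})) := fun V => by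
  have e : B.ι ''ᵁ (V ⊓ B.ι ⁻¹ᵁ O) = B.ι ''ᵁ V ⊓ O := by
    apply Opens.ext
    ext x
    constructor
    · rintro ⟨y, ⟨h1, h2⟩, rfl⟩
      exact ⟨⟨y, h1, rfl⟩, h2⟩
    · rintro ⟨⟨y, h1, rfl⟩, h2⟩
      exact ⟨y, ⟨h1, h2⟩, rfl⟩
  exact (bijective_res_congr e (B.ι.image_mono inf_le_left) inf_le_left).mpr (h (B.ι ''ᵁ V))

/-- Bijectivity on functions, from parafactoriality on an open. -/
lemma bijective_functions_of_invRestrictEquiv {A B : X.Opens} (hAB : A ≤ B)
    (h : ParaF.InvRestrictEquiv (X.homOfLE hAB)) :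
    Function.Bijective (resO X hAB) := by
  have hO : PicF.IsInvertible (Coh.structureModule (B : Scheme.{u})) := fun y =>
    ⟨⊤, trivial, nonempty_restrictUnitIso _⟩
  have h1 := (bijective_restrict_end_iff (X.homOfLE hAB)).1 (h.1 _ _ hO hO)
  have e : B.ι ''ᵁ (X.homOfLE hAB ''ᵁ ⊤) = A := by
    rw [← Scheme.Hom.comp_image]
    simp
  have e2 : B.ι ''ᵁ ⊤ = B := B.ι_image_top
  have h2 : Function.Bijective (resO X (B.ι.image_mono le_top : B.ι ''ᵁ (X.homOfLE hAB ''ᵁ ⊤) ≤ B.ι ''ᵁ ⊤)) := h1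
  have aux : ∀ {P Q : X.Opens} (hp : P = A) (hq : Q = B) (hle : P ≤ Q),
      Function.Bijective (resO X hle) → Function.Bijective (resO X hAB) := by
    rintro P Q rfl rfl hle hb; exact hb
  exact aux e e2 _ h2

theorem secBij_of_isParafactorialPair (h : ParaF.IsParafactorialPair X Y) :
    SecBij Y.compl (Coh.structureModule X) := fun V =>
  bijective_functions_of_invRestrictEquiv inf_le_left (h V)

theorem isParafactorialPair_of (hO : SecBij Y.compl (Coh.structureModule X))
    (hp : ∀ (V : X.Opens) (L : ((V ⊓ Y.compl : X.Opens) : Scheme.{u}).Modules), PicF.IsInvertible L →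
      PicF.IsInvertible ((Scheme.Modules.pushforward (X.homOfLE (inf_le_left : V ⊓ Y.compl ≤ V))).obj L)) :
    ParaF.IsParafactorialPair X Y := fun V => by
  refine invRestrictEquiv_of _ ?_ (hp V)
  have e : (X.homOfLE (inf_le_left : V ⊓ Y.compl ≤ V)).opensRange = V.ι ⁻¹ᵁ Y.compl := by
    rw [opensRange_homOfLE]
    apply Opens.ext; ext x
    exact ⟨fun h => h.2, fun h => ⟨x.2, h⟩⟩
  rw [e]
  exact secBij_structure_restrict hO V

end Groth.Agent.ParaFLib
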