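import Groth.Agent.ParaFLib.Basic
import Groth.Agent.CohQC.QuasiAffine

/-!
# Endomorphisms of the structure sheaf and restriction
-/

universe u

open CategoryTheory AlgebraicGeometry TopologicalSpace Opposite
open Groth.Agent.QC (res resO res_res res_smul resO_resO app_res)

set_option backward.isDefEq.respectTransparency false

noncomputable section

namespace Groth.Agent.ParaFLib

variable {U V : Scheme.{u}}

/-- The unit section. -/
abbrev oneSec (X : Scheme.{u}) (W : X.Opens) : Γ(Coh.structureModule X, W) :=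
  show Γ(Coh.structureModule X, W) from (1 : Γ(X, W))

lemma bijective_app_one (F : U.Modules) :
    Function.Bijective fun φ : Coh.structureModule U ⟶ F => φ.app ⊤ (oneSec U ⊤) := by
  refine ⟨fun φ ψ h => ?_, fun s => ⟨CohQC.secHom s, ?_⟩⟩
  · have key : ∀ (χ : Coh.structureModule U ⟶ F) (W : U.Opens) (t : Γ(U, W)),
        χ.app W (show Γ(Coh.structureModule U, W) from t) =
          t • res F (le_top : W ≤ ⊤) (χ.app ⊤ (oneSec U ⊤)) := by
      intro χ W t
      have e1 : res (Coh.structureModule U) (le_top : W ≤ ⊤) (oneSec U ⊤) = oneSec U W :=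
        map_one (U.presheaf.map (homOfLE (le_top : W ≤ ⊤)).op).hom
      rw [app_res, e1, ← Scheme.Modules.Hom.app_smul]
      exact congrArg (χ.app W) (mul_one t).symm
    refine Scheme.Modules.hom_ext _ _ fun W => ?_
    ext t
    change φ.app W t = ψ.app W t
    refine (key φ W t).trans (Eq.trans ?_ (key ψ W t).symm)
    exact congrArg (fun z => (show Γ(U, W) from t) • res F (le_top : W ≤ ⊤) z) h
  · exact (CohQC.secHom_app_one s ⊤).trans (Groth.Agent.QC.res_self F le_rfl s)

lemma isGen_one (X : Scheme.{u}) :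
    ∀ (W : X.Opens) (hW : W ≤ ⊤),
      Function.Bijective fun c : Γ(X, W) => c • res (Coh.structureModule X) hW (oneSec X ⊤) := by
  intro W hW
  have e : (fun c : Γ(X, W) => c • res (Coh.structureModule X) hW (oneSec X ⊤)) =
      fun c : Γ(X, W) => (show Γ(Coh.structureModule X, W) from c) := by
    funext c
    have e1 : res (Coh.structureModule X) hW (oneSec X ⊤) = oneSec X W :=
      map_one (X.presheaf.map (homOfLE hW).op).hom
    rw [e1]
    exact mul_one c
  rw [e]
  exact Function.bijective_id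

/-- The structure sheaf restricts to the structure sheaf. -/
theorem nonempty_restrictUnitIso (j : U ⟶ V) [IsOpenImmersion j] :
    Nonempty ((Coh.structureModule V).restrict j ≅ Coh.structureModule U) :=
  InvGen.nonempty_iso j (Coh.structureModule V) (U := ⊤) le_top (oneSec V ⊤) (isGen_one V)

/-- Restriction is bijective on endomorphisms of the structure sheaf iff it is on functions. -/
theorem bijective_restrict_end_iff (j : U ⟶ V) [IsOpenImmersion j] :
    (Function.Bijective fun φ : Coh.structureModule V ⟶ Coh.structureModule V =>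
        (Scheme.Modules.restrictFunctor j).map φ) ↔
      Function.Bijective (V.presheaf.map (homOfLE (le_top : j ''ᵁ ⊤ ≤ ⊤)).op) := by
  let M := (Coh.structureModule V).restrict j
  let c := InvGen.ofGen j (Coh.structureModule V) (U := ⊤) le_top (oneSec V ⊤)
  haveI : IsIso c := by
    rw [Scheme.Modules.Hom.isIso_iff_isIso_app]
    intro W
    rw [ConcreteCategory.isIso_iff_bijective]
    exact (isGen_one V (j ''ᵁ W) le_top).comp (ConcreteCategory.bijective_of_isIso (j.appIso W).inv)
  let E : (M ⟶ M) → Γ(V, j ''ᵁ ⊤) := fun ψ => (c ≫ ψ).app ⊤ (oneSec U ⊤)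
  have hE : Function.Bijective E :=
    (bijective_app_one (U := U) M).comp
      (⟨fun a b h => (cancel_epi c).1 h, fun b => ⟨inv c ≫ b, IsIso.hom_inv_id_assoc c b⟩⟩ :
        Function.Bijective fun ψ : M ⟶ M => c ≫ ψ)
  let E' : (Coh.structureModule V ⟶ Coh.structureModule V) → Γ(V, ⊤) :=
    fun φ => φ.app ⊤ (oneSec V ⊤)
  have hc : c.app ⊤ (oneSec U ⊤) =
      (res (Coh.structureModule V) (le_top : j ''ᵁ ⊤ ≤ ⊤) (oneSec V ⊤)) := by
    change ((j.appIso ⊤).inv.hom (1 : Γ(U, ⊤)) : Γ(V, j ''ᵁ ⊤)) • (res (Coh.structureModule V) (le_top : j ''ᵁ ⊤ ≤ ⊤) (oneSec V ⊤) : Γ(Coh.structureModule V, j ''ᵁ ⊤)) = _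
    rw [map_one, one_smul]
  have h : E ∘ (fun φ : Coh.structureModule V ⟶ Coh.structureModule V =>
      (Scheme.Modules.restrictFunctor j).map φ) =
      (fun s => V.presheaf.map (homOfLE (le_top : j ''ᵁ ⊤ ≤ ⊤)).op s) ∘ E' := by
    funext φ
    change φ.app (j ''ᵁ ⊤) (c.app ⊤ (oneSec U ⊤)) = _
    rw [hc, ← app_res]
    rfl
  rw [← Function.Bijective.of_comp_iff' hE, h]
  exact Function.Bijective.of_comp_iff _ (bijective_app_one (U := V) _)

/-- If all invertible modules are trivial, only the functions matter. -/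
theorem invRestrictEquiv_iff_of_picTrivial (j : U ⟶ V) [IsOpenImmersion j] (hV : ParaF.PicTrivial V) :
    ParaF.InvRestrictEquiv j ↔
      (Function.Bijective (V.presheaf.map (homOfLE (le_top : j ''ᵁ ⊤ ≤ ⊤)).op) ∧ ParaF.PicTrivial U) := by
  have hO : PicF.IsInvertible (Coh.structureModule V) := fun y =>
    ⟨⊤, trivial, nonempty_restrictUnitIso _⟩
  obtain ⟨u⟩ := nonempty_restrictUnitIso j
  constructor
  · intro h
    refine ⟨(bijective_restrict_end_iff j).1 (h.1 _ _ hO hO), fun L hL => ?_⟩
    obtain ⟨M, hM, ⟨e⟩⟩ := h.2 L hL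
    obtain ⟨e'⟩ := hV M hM
    exact ⟨e.symm ≪≫ (Scheme.Modules.restrictFunctor j).mapIso e' ≪≫ u⟩
  · rintro ⟨hb, hU⟩
    refine ⟨fun L L' hL hL' => ?_, fun L₀ hL₀ => ?_⟩
    · obtain ⟨a⟩ := hV L hL
      obtain ⟨b⟩ := hV L' hL'
      have h0 := (bijective_restrict_end_iff j).2 hb
      let F := Scheme.Modules.restrictFunctor j
      constructor
      · intro φ ψ h
        have : F.map (a.inv ≫ φ ≫ b.hom) = F.map (a.inv ≫ ψ ≫ b.hom) := by
          simp only [Functor.map_comp]
          exact congrArg (fun k => F.map a.inv ≫ k ≫ F.map b.hom) h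
        exact (cancel_mono b.hom).1 ((cancel_epi a.inv).1 (h0.1 this))
      · intro ψ
        obtain ⟨φ, hφ⟩ := h0.2 (F.map a.inv ≫ ψ ≫ F.map b.hom)
        refine ⟨a.hom ≫ φ ≫ b.inv, ?_⟩
        change F.map (a.hom ≫ φ ≫ b.inv) = ψ
        simp only [Functor.map_comp]
        rw [show F.map φ = _ from hφ]
        simp only [Category.assoc, ← Functor.map_comp, Iso.hom_inv_id, CategoryTheory.Functor.map_id,
          Category.comp_id, Iso.hom_inv_id_assoc]
        rw [← Category.assoc, ← Functor.map_comp, Iso.hom_inv_id, CategoryTheory.Functor.map_id, Category.id_comp]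
        exact Category.comp_id ψ
    · obtain ⟨e⟩ := hU L₀ hL₀
      exact ⟨_, hO, ⟨u ≪≫ e.symm⟩⟩

/-- Invertible modules on a local scheme are trivial. -/
theorem picTrivial_spec (A : Type u) [CommRing A] [IsLocalRing A] :
    ParaF.PicTrivial (Spec (CommRingCat.of A)) := by
  intro L hL
  obtain ⟨W, hW, ⟨e⟩⟩ := hL (IsLocalRing.closedPoint A)
  obtain rfl : W = ⊤ := Opens.ext (Set.eq_univ_of_forall fun x =>
    (IsLocalRing.specializes_closedPoint (x : PrimeSpectrum A)).mem_open W.2 hW)
  let X := Spec (CommRingCat.of A)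
  obtain ⟨u⟩ := nonempty_restrictUnitIso X.topIso.inv
  exact ⟨(Scheme.Modules.restrictFunctorId.app L).symm ≪≫
    ((Scheme.Modules.restrictFunctorCongr X.topIso.inv_hom_id.symm).app L) ≪≫
    ((Scheme.Modules.restrictFunctorComp X.topIso.inv X.topIso.hom).app L) ≪≫
    (Scheme.Modules.restrictFunctor X.topIso.inv).mapIso e ≪≫ u⟩

end Groth.Agent.ParaFLib
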