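import Mathlib
import Groth.Agent.ParaFLib.Ext
import Groth.Agent.S8914
import Groth.Agent.FittLib.Comap
import Groth.Agent.QC.IdealMod

/-!
# Unique factorisation at a point outside an open across which functions and line bundles extend
-/

universe u

open CategoryTheory AlgebraicGeometry TopologicalSpace Opposite
open Groth.Agent.QC (res resO res_res res_self res_smul resO_resO section_eq_of_locally app_res)
open TMul (IsGen)

set_option backward.isDefEq.respectTransparency false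

noncomputable section

namespace Groth.Agent.ParaFLib

variable {X : Scheme.{u}}

lemma isGen_iso {M N : X.Modules} (φ : M ≅ N) {U : X.Opens} {e : Γ(M, U)} (he : IsGen e) :
    IsGen (φ.hom.app U e) := fun V hV => by
  have hb : Function.Bijective (φ.hom.app V) :=
    ConcreteCategory.bijective_of_isIso (φ.hom.app V)
  have : (fun c : Γ(X, V) => c • res N hV (φ.hom.app U e)) =
      (φ.hom.app V) ∘ fun c : Γ(X, V) => c • res M hV e := funext fun c => by
    rw [Function.comp_apply, app_res, Scheme.Modules.Hom.app_smul]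
  rw [this]
  exact hb.comp (he V hV)

lemma isGen_restrict {Y : Scheme.{u}} (j : Y ⟶ X) [IsOpenImmersion j] {M : X.Modules} {N : X.Opens}
    {e : Γ(M, N)} (he : IsGen e) :
    IsGen (N := M.restrict j) (U := j ⁻¹ᵁ N)
      (show Γ(M.restrict j, j ⁻¹ᵁ N) from res M (j.image_preimage_le N) e) := fun V hV => by
  have hV' : j ''ᵁ V ≤ N := (j.image_mono hV).trans (j.image_preimage_le N)
  have := (he (j ''ᵁ V) hV').comp (ConcreteCategory.bijective_of_isIso (j.appIso V).inv)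
  have h : ∀ c : Γ(Y, V), (c • res (M.restrict j) hV
      (show Γ(M.restrict j, j ⁻¹ᵁ N) from res M (j.image_preimage_le N) e) : Γ(M.restrict j, V)) =
      (show Γ(M.restrict j, V) from (j.appIso V).inv.hom c • res M hV' e) := fun c => by
    show (j.appIso V).inv.hom c • res M (j.image_mono hV) (res M _ e) = _
    rw [res_res]
  exact (funext h) ▸ this

/-- An invertible module which extends has a generator near every point. -/
lemma exists_gen_of_extends {U : X.Opens} {L : (U : Scheme.{u}).Modules} {M : X.Modules}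
    (hM : PicF.IsInvertible M) (φ : M.restrict U.ι ≅ L) (x : X) :
    ∃ (D : X.Opens) (σ : Γ(L, U.ι ⁻¹ᵁ D)), x ∈ D ∧ IsGen σ := by
  obtain ⟨N, e, hxN, he⟩ := TMul.exists_isGen hM x
  exact ⟨N, _, hxN, isGen_iso φ (isGen_restrict U.ι he)⟩

lemma secBij_injective {O : X.Opens} (hO : SecBij O (Coh.structureModule X)) {V : X.Opens} {s t : Γ(X, V)}
    (h : resO X (inf_le_left : V ⊓ O ≤ V) s = resO X inf_le_left t) : s = t :=
  (hO V).1 h

/-- The open is dense. -/
lemma secBij_dense {O : X.Opens} (hO : SecBij O (Coh.structureModule X)) {W : X.Opens} {x : X} (hx : x ∈ W) :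
    ∃ y ∈ W, y ∈ O := by
  by_contra hne
  push Not at hne
  have h01 : (1 : Γ(X, W)) = 0 := secBij_injective hO
    (TopCat.Presheaf.IsSheaf.section_ext X.sheaf.2 fun y hy => (hne y hy.1 hy.2).elim)
  haveI : Nonempty W := ⟨⟨x, hx⟩⟩
  have := congrArg (X.presheaf.germ W x hx) h01
  rw [map_one, map_zero] at this
  exact one_ne_zero this

lemma isReduced_of_secBij {O : X.Opens} (hO : SecBij O (Coh.structureModule X))
    (h : ∀ y : X, y ∈ O → IsDomain (X.presheaf.stalk y)) : IsReduced X := by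
  refine ⟨fun V => ⟨fun s hs => secBij_injective hO ?_⟩⟩
  refine TopCat.Presheaf.IsSheaf.section_ext X.sheaf.2 fun y hy => ?_
  refine ⟨V ⊓ O, le_rfl, hy, ?_⟩
  show resO X le_rfl (resO X inf_le_left s) = resO X le_rfl (resO X inf_le_left (0 : Γ(X, V)))
  congr 1
  haveI : _root_.IsReduced Γ(X, V ⊓ O) := by
    refine ⟨fun t ht => TopCat.Presheaf.IsSheaf.section_ext X.sheaf.2 fun z hz => ?_⟩
    haveI := h z hz.2
    have h0 : X.presheaf.germ (V ⊓ O) z hz t = X.presheaf.germ (V ⊓ O) z hz 0 := by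
      rw [map_zero]; exact (ht.map _).eq_zero
    obtain ⟨W, hzW, i, j, he⟩ := TopCat.Presheaf.germ_eq X.presheaf z hz hz _ _ h0
    exact ⟨W, i.le, hzW, he⟩
  rw [map_zero]
  exact (hs.map _).eq_zero

variable [IsAffine X]

/-- the point of a prime ideal of global sections -/
lemma exists_pt (p : Ideal Γ(X, ⊤)) [p.IsPrime] :
    ∃ y : X, ∀ a : Γ(X, ⊤), y ∈ X.basicOpen a ↔ a ∉ p := by
  refine ⟨(isAffineOpen_top X).fromSpec ⟨p, inferInstance⟩, fun a => ?_⟩
  rw [← Scheme.Hom.mem_preimage, (isAffineOpen_top X).fromSpec_preimage_basicOpen]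
  exact Iff.rfl

theorem isDomain_nhd [IsLocallyNoetherian X] {O : X.Opens} (hO : SecBij O (Coh.structureModule X))
    (h : ∀ y : X, y ∈ O → IsDomain (X.presheaf.stalk y)) (x : X) :
    ∃ d : Γ(X, ⊤), x ∈ X.basicOpen d ∧ IsDomain Γ(X, X.basicOpen d) := by
  classical
  haveI := isReduced_of_secBij hO h
  haveI : IsNoetherianRing Γ(X, ⊤) :=
    IsLocallyNoetherian.component_noetherian ⟨⊤, isAffineOpen_top X⟩
  let q := ((isAffineOpen_top X).primeIdealOf ⟨x, trivial⟩).asIdeal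
  have hq : ∀ a : Γ(X, ⊤), x ∈ X.basicOpen a ↔ a ∉ q := fun a => by
    show _ ↔ ((isAffineOpen_top X).primeIdealOf ⟨x, trivial⟩) ∈ PrimeSpectrum.basicOpen a
    rw [← (isAffineOpen_top X).fromSpec_preimage_basicOpen, Scheme.Hom.mem_preimage,
      (isAffineOpen_top X).fromSpec_primeIdealOf]
  have hfin : (minimalPrimes Γ(X, ⊤)).Finite := minimalPrimes.finite_of_isNoetherianRing _
  -- no two minimal primes below `q`
  have uniq : ∀ p₁ ∈ minimalPrimes Γ(X, ⊤), ∀ p₂ ∈ minimalPrimes Γ(X, ⊤), p₁ ≤ q → p₂ ≤ q → p₁ = p₂ := by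
    intro p₁ hp₁ p₂ hp₂ h₁ h₂
    by_contra hne
    haveI := hp₁.1.1
    haveI := hp₂.1.1
    let others := hfin.toFinset.erase p₁
    let J : Ideal Γ(X, ⊤) := others.inf id
    have hIJ : ∀ a ∈ p₁, a ∈ J → a = 0 := fun a ha ha' => by
      have : a ∈ (⊥ : Ideal Γ(X, ⊤)).radical := by
        rw [← Ideal.sInf_minimalPrimes, Ideal.mem_sInf]
        intro r hr
        rcases eq_or_ne r p₁ with rfl | hr'
        · exact ha
        · exact (Finset.inf_le (f := id) (b := r)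
            (Finset.mem_erase.mpr ⟨hr', hfin.mem_toFinset.mpr hr⟩)) ha'
      obtain ⟨n, hn⟩ := this
      exact IsReduced.eq_zero _ ⟨n, Ideal.mem_bot.mp hn⟩
    have hJ : ∀ r : Ideal Γ(X, ⊤), r.IsPrime → J ≤ r → ∃ p ∈ minimalPrimes Γ(X, ⊤), p ≠ p₁ ∧ p ≤ r := by
      intro r hr hle
      obtain ⟨p, hp, hpr⟩ := (hr.inf_le'.mp hle)
      exact ⟨p, hfin.mem_toFinset.mp (Finset.mem_of_mem_erase hp), Finset.ne_of_mem_erase hp, hpr⟩
    -- the two pieces of `O`
    let U₁ : X.Opens := O ⊓ ⨆ a : J, X.basicOpen (a : Γ(X, ⊤))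
    let U₂ : X.Opens := O ⊓ ⨆ a : p₁, X.basicOpen (a : Γ(X, ⊤))
    have hcov : O ≤ U₁ ⊔ U₂ := fun y hy => by
      by_contra hn
      simp only [U₁, U₂, SetLike.mem_coe, Opens.mem_sup, Opens.mem_inf, Opens.mem_iSup, hy, true_and,
        Subtype.exists, not_or, not_exists] at hn
      let r := ((isAffineOpen_top X).primeIdealOf ⟨y, trivial⟩).asIdeal
      have hr : ∀ a : Γ(X, ⊤), y ∈ X.basicOpen a ↔ a ∉ r := fun a => by
        show _ ↔ ((isAffineOpen_top X).primeIdealOf ⟨y, trivial⟩) ∈ PrimeSpectrum.basicOpen a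
        rw [← (isAffineOpen_top X).fromSpec_preimage_basicOpen, Scheme.Hom.mem_preimage,
          (isAffineOpen_top X).fromSpec_primeIdealOf]
      have hr1 : p₁ ≤ r := fun a ha => by_contra fun h' => hn.2 a ha ((hr a).mpr h')
      have hrJ : J ≤ r := fun a ha => by_contra fun h' => hn.1 a ha ((hr a).mpr h')
      obtain ⟨p, hp, hpne, hpr⟩ := hJ r inferInstance hrJ
      haveI := h y hy
      letI := (X.presheaf.germ ⊤ y trivial).hom.toAlgebra
      haveI : IsLocalization.AtPrime (X.presheaf.stalk y) r :=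
        (isAffineOpen_top X).isLocalization_stalk ⟨y, trivial⟩
      have hk : ∀ p ∈ minimalPrimes Γ(X, ⊤), p ≤ r →
          p = RingHom.ker (algebraMap Γ(X, ⊤) (X.presheaf.stalk y)) := by
        intro p hp hpr
        haveI := hp.1.1
        refine le_antisymm ?_ ?_
        · refine hp.2 ⟨RingHom.ker_isPrime _, bot_le⟩ fun a ha => ?_
          obtain ⟨⟨s, hs⟩, hsa⟩ := (IsLocalization.map_eq_zero_iff r.primeCompl (X.presheaf.stalk y) a).mp ha
          exact (hp.1.1.mem_or_mem (hsa ▸ p.zero_mem : s * a ∈ p)).resolve_left fun h' => hs (hpr h')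
        · intro a ha
          obtain ⟨⟨s, hs⟩, hsa⟩ := (IsLocalization.map_eq_zero_iff r.primeCompl (X.presheaf.stalk y) a).mp ha
          exact (hp.1.1.mem_or_mem (hsa ▸ p.zero_mem : s * a ∈ p)).resolve_left fun h' => hs (hpr h')
      exact hpne ((hk p hp hpr).trans (hk p₁ hp₁ hr1).symm)
    have hdisj : U₁ ⊓ U₂ = ⊥ := by
      refine Opens.ext (Set.eq_empty_iff_forall_notMem.mpr ?_)
      rintro y ⟨⟨-, h1⟩, -, h2⟩
      obtain ⟨⟨a, ha⟩, hya⟩ := Opens.mem_iSup.mp h1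
      obtain ⟨⟨b, hb⟩, hyb⟩ := Opens.mem_iSup.mp h2
      have h0 : a * b = 0 := hIJ _ (p₁.mul_mem_left a hb) (J.mul_mem_right b ha)
      have : y ∈ X.basicOpen (a * b) := by rw [Scheme.basicOpen_mul]; exact ⟨hya, hyb⟩
      rw [h0, Scheme.basicOpen_zero] at this
      exact this
    let sec : ∀ i : Bool, Γ(X, cond i U₁ U₂) := fun i => Bool.rec 0 1 i
    obtain ⟨e₀, he₀, -⟩ := TopCat.Sheaf.existsUnique_gluing' X.sheaf (fun i => cond i U₁ U₂) O
      (fun i => homOfLE (by cases i <;> exact inf_le_left))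
      (fun y hy => by
        rcases hcov hy with h' | h'
        · exact Opens.mem_iSup.mpr ⟨true, h'⟩
        · exact Opens.mem_iSup.mpr ⟨false, h'⟩) sec (fun i i' => by
        have triv : ∀ (W : X.Opens), W = ⊥ → ∀ s t : Γ(X, W), s = t := fun W hW s t =>
          TopCat.Presheaf.IsSheaf.section_ext X.sheaf.2 fun y hy => by rw [hW] at hy; exact hy.elim
        cases i <;> cases i'
        · rfl
        · exact triv _ (by rw [inf_comm]; exact hdisj) _ _
        · exact triv _ hdisj _ _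
        · rfl)
    have e1 : resO X (inf_le_left : U₁ ≤ O) e₀ = 1 := he₀ true
    have e2 : resO X (inf_le_left : U₂ ≤ O) e₀ = 0 := he₀ false
    obtain ⟨e, he⟩ : ∃ e : Γ(X, ⊤), resO X (inf_le_left : (⊤ : X.Opens) ⊓ O ≤ ⊤) e = resO X inf_le_right e₀ :=
      (hO ⊤).2 (resO X (inf_le_right : (⊤ : X.Opens) ⊓ O ≤ O) e₀)
    have he' : ∀ (V : X.Opens) (hV : V ≤ O), resO X (le_top : V ≤ ⊤) e = resO X hV e₀ := fun V hV => by
      have := congrArg (resO X (le_inf le_top hV : V ≤ (⊤ : X.Opens) ⊓ O))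
        (show resO X (inf_le_left : (⊤ : X.Opens) ⊓ O ≤ ⊤) e = resO X inf_le_right e₀ from he)
      rwa [resO_resO, resO_resO] at this
    -- a minimal prime is a point of `O`
    have hgen : ∀ p ∈ minimalPrimes Γ(X, ⊤), ∀ y : X, (∀ a, y ∈ X.basicOpen a ↔ a ∉ p) → y ∈ O := by
      intro p hp y hy
      haveI := hp.1.1
      obtain ⟨s, hsp, hs⟩ : ∃ s ∉ p, ∀ p' ∈ minimalPrimes Γ(X, ⊤), p' ≠ p → s ∈ p' := by
        have hnle : ¬ (hfin.toFinset.erase p).inf id ≤ p := fun hle => by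
          obtain ⟨p', hp', hle'⟩ := hp.1.1.inf_le'.mp hle
          exact Finset.ne_of_mem_erase hp' (le_antisymm hle'
            (hp.2 (hfin.mem_toFinset.mp (Finset.mem_of_mem_erase hp')).1 hle'))
        obtain ⟨s, hs, hsp⟩ := SetLike.not_le_iff_exists.mp hnle
        exact ⟨s, hsp, fun p' hp' hne' =>
          Finset.inf_le (f := id) (Finset.mem_erase.mpr ⟨hne', hfin.mem_toFinset.mpr hp'⟩) hs⟩
      obtain ⟨z, hzs, hzO⟩ := secBij_dense hO ((hy s).mpr hsp)
      refine Specializes.mem_open ?_ O.2 hzO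
      rw [specializes_iff_forall_open]
      intro W hW hzW
      obtain ⟨f, hfW, hzf⟩ := (isAffineOpen_top X).exists_basicOpen_le (V := ⟨W, hW⟩) ⟨z, hzW⟩ trivial
      refine hfW ((hy f).mpr fun hfp => ?_)
      have h0 : f * s = 0 := by
        have : f * s ∈ (⊥ : Ideal Γ(X, ⊤)).radical := by
          rw [← Ideal.sInf_minimalPrimes, Ideal.mem_sInf]
          intro r hr
          rcases eq_or_ne r p with rfl | hr'
          · exact r.mul_mem_right s hfp
          · exact r.mul_mem_left f (hs r hr hr')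
        obtain ⟨n, hn⟩ := this
        exact IsReduced.eq_zero _ ⟨n, Ideal.mem_bot.mp hn⟩
      have : z ∈ X.basicOpen (f * s) := by rw [Scheme.basicOpen_mul]; exact ⟨hzf, hzs⟩
      rw [h0, Scheme.basicOpen_zero] at this
      exact this
    obtain ⟨y₁, hy₁⟩ := exists_pt (X := X) p₁
    obtain ⟨y₂, hy₂⟩ := exists_pt (X := X) p₂
    have hy₁U : y₁ ∈ U₁ := by
      refine ⟨hgen p₁ hp₁ y₁ hy₁, Opens.mem_iSup.mpr ?_⟩
      have hnle : ¬ J ≤ p₁ := fun hle => by
        obtain ⟨p, hp, hpne, hple⟩ := hJ p₁ inferInstance hle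
        exact hpne (le_antisymm hple (hp₁.2 hp.1 hple))
      obtain ⟨a, haJ, ha⟩ := SetLike.not_le_iff_exists.mp hnle
      exact ⟨⟨a, haJ⟩, (hy₁ a).mpr ha⟩
    have hy₂U : y₂ ∈ U₂ := by
      refine ⟨hgen p₂ hp₂ y₂ hy₂, Opens.mem_iSup.mpr ?_⟩
      have hnle : ¬ p₁ ≤ p₂ := fun hle => hne (le_antisymm hle (hp₂.2 hp₁.1 hle))
      obtain ⟨a, ha1, ha⟩ := SetLike.not_le_iff_exists.mp hnle
      exact ⟨⟨a, ha1⟩, (hy₂ a).mpr ha⟩
    -- `1 - e` vanishes at `y₁`, `e` at `y₂`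
    have h1 : 1 - e ∈ p₁ := by
      by_contra hc
      have hmem := (hy₁ (1 - e)).mpr hc
      have : y₁ ∈ X.basicOpen (resO X (le_top : U₁ ≤ ⊤) (1 - e)) := by
        rw [Scheme.basicOpen_res]; exact ⟨hy₁U, hmem⟩
      rw [map_sub, map_one, he' U₁ inf_le_left, e1, sub_self, Scheme.basicOpen_zero] at this
      exact this
    have h2' : e ∈ p₂ := by
      by_contra hc
      have hmem := (hy₂ e).mpr hc
      have : y₂ ∈ X.basicOpen (resO X (le_top : U₂ ≤ ⊤) e) := by
        rw [Scheme.basicOpen_res]; exact ⟨hy₂U, hmem⟩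
      rw [he' U₂ inf_le_left, e2, Scheme.basicOpen_zero] at this
      exact this
    exact ((isAffineOpen_top X).primeIdealOf ⟨x, trivial⟩).isPrime.ne_top
      ((Ideal.eq_top_iff_one _).mpr (by simpa using q.add_mem (h₁ h1) (h₂ h2')))
  -- shrink
  let others := hfin.toFinset.filter fun p => ¬ p ≤ q
  obtain ⟨d, hdq, hd⟩ : ∃ d ∉ q, ∀ p ∈ others, d ∈ p := by
    have hnle : ¬ others.inf id ≤ q := fun hle => by
      obtain ⟨p, hp, hpq⟩ := (inferInstance : q.IsPrime).inf_le'.mp hle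
      exact (Finset.mem_filter.mp hp).2 hpq
    obtain ⟨d, hd, hdq⟩ := SetLike.not_le_iff_exists.mp hnle
    exact ⟨d, hdq, fun p hp => Finset.inf_le (f := id) hp hd⟩
  refine ⟨d, (hq d).mpr hdq, ?_⟩
  haveI := (isAffineOpen_top X).isLocalization_basicOpen d
  haveI : Nontrivial Γ(X, X.basicOpen d) :=
    haveI : Nonempty (X.basicOpen d) := ⟨⟨x, (hq d).mpr hdq⟩⟩
    inferInstance
  obtain ⟨p₀, hp₀, hp₀q⟩ := Ideal.exists_minimalPrimes_le (bot_le : ⊥ ≤ q)
  haveI := hp₀.1.1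
  haveI : NoZeroDivisors Γ(X, X.basicOpen d) := ⟨fun {a b} hab => by
    obtain ⟨⟨a', s⟩, ha⟩ := IsLocalization.surj (Submonoid.powers d) a
    obtain ⟨⟨b', t⟩, hb⟩ := IsLocalization.surj (Submonoid.powers d) b
    have : algebraMap Γ(X, ⊤) Γ(X, X.basicOpen d) (a' * b') = 0 := by
      rw [map_mul, ← ha, ← hb, mul_mul_mul_comm, hab, zero_mul]
    obtain ⟨⟨_, n, rfl⟩, hn⟩ := (IsLocalization.map_eq_zero_iff (Submonoid.powers d) _ _).mp this
    have key : ∀ c : Γ(X, ⊤), c ∈ p₀ → algebraMap Γ(X, ⊤) Γ(X, X.basicOpen d) c = 0 := fun c hc => by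
      refine (IsLocalization.map_eq_zero_iff (Submonoid.powers d) _ _).mpr ⟨⟨d, 1, pow_one d⟩, ?_⟩
      have : d * c ∈ (⊥ : Ideal Γ(X, ⊤)).radical := by
        rw [← Ideal.sInf_minimalPrimes, Ideal.mem_sInf]
        intro r hr
        by_cases hrq : r ≤ q
        · exact (uniq p₀ hp₀ r hr hp₀q hrq) ▸ p₀.mul_mem_left d hc
        · exact r.mul_mem_right c (hd r (Finset.mem_filter.mpr ⟨hfin.mem_toFinset.mpr hr, hrq⟩))
      obtain ⟨n, hn⟩ := this
      exact IsReduced.eq_zero _ ⟨n, Ideal.mem_bot.mp hn⟩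
    rcases hp₀.1.1.mem_or_mem (hn ▸ p₀.zero_mem : d ^ n * (a' * b') ∈ p₀) with h' | h'
    · exact absurd (hp₀q (hp₀.1.1.mem_of_pow_mem n h')) hdq
    · rcases hp₀.1.1.mem_or_mem h' with h'' | h''
      · left
        exact ((IsLocalization.map_units _ s).mul_left_eq_zero).mp (ha.trans (key _ h''))
      · right
        exact ((IsLocalization.map_units _ t).mul_left_eq_zero).mp (hb.trans (key _ h''))⟩
  exact NoZeroDivisors.to_isDomain _

lemma mem_range_idealMod_of_locally {Z : Scheme.{u}} (I : Z.IdealSheafData) {W : Z.Opens} (t : Γ(Z, W))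
    (h : ∀ y ∈ W, ∃ (V : Z.affineOpens) (hV : V.1 ≤ W), y ∈ V.1 ∧ resO Z hV t ∈ I.ideal V) :
    t ∈ Set.range ((ClSub.idealModι I).app W) := by
  refine (Groth.Agent.QC.mem_range_kernel_app (ClSub.toSubscheme I) W t).mpr ?_
  refine section_eq_of_locally fun y hy => ?_
  obtain ⟨V, hV, hyV, hm⟩ := h y hy
  refine ⟨V.1, hV, hyV, ?_⟩
  have h1 := (Groth.Agent.QC.mem_range_kernel_app (ClSub.toSubscheme I) V.1 _).mp
    ((Groth.Agent.QC.mem_range_idealModι_affine I V _).mpr hm)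
  rw [app_res, map_zero]
  exact h1

/-- Unique factorisation at a point: functions and invertible modules extend across the complement of an open
with factorial local rings. -/
theorem ufd_stalk [IsIntegral X] [IsLocallyNoetherian X] {O : X.Opens}
    (hO : SecBij O (Coh.structureModule X))
    (h : ∀ y : X, y ∈ O → UniqueFactorizationMonoid (X.presheaf.stalk y)) (x : X)
    (hL : ∀ L : (O : Scheme.{u}).Modules, PicF.IsInvertible L →
      ∃ (D : X.Opens) (σ : Γ(L, O.ι ⁻¹ᵁ D)), x ∈ D ∧ IsGen σ) :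
    UniqueFactorizationMonoid (X.presheaf.stalk x) := by
  classical
  haveI : IsNoetherianRing Γ(X, ⊤) :=
    IsLocallyNoetherian.component_noetherian ⟨⊤, isAffineOpen_top X⟩
  haveI : Nonempty (⊤ : X.Opens) := ⟨⟨x, trivial⟩⟩
  letI := (X.presheaf.germ ⊤ x trivial).hom.toAlgebra
  let q := ((isAffineOpen_top X).primeIdealOf ⟨x, trivial⟩).asIdeal
  haveI hloc : IsLocalization.AtPrime (X.presheaf.stalk x) q :=
    (isAffineOpen_top X).isLocalization_stalk ⟨x, trivial⟩
  haveI : IsNoetherianRing (X.presheaf.stalk x) := IsLocalization.isNoetherianRing q.primeCompl _ inferInstance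
  refine UniqueFactorizationMonoid.of_forall_isPrincipal_of_height_eq_one fun P hPp hP => ?_
  let 𝔭 : Ideal Γ(X, ⊤) := P.comap (algebraMap Γ(X, ⊤) (X.presheaf.stalk x))
  have h𝔭1 : 𝔭.height = 1 := by
    rw [← hP]; exact IsLocalization.height_under q.primeCompl P
  have h𝔭0 : 𝔭 ≠ ⊥ := Ideal.ne_bot_of_height_eq_one h𝔭1
  obtain ⟨yp, hyp⟩ := exists_pt (X := X) 𝔭
  -- the point of `𝔭` lies in `O`
  have hypO : yp ∈ O := by
    by_contra hnot
    obtain ⟨f, hf, hf0⟩ := Submodule.exists_mem_ne_zero_of_ne_bot h𝔭0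
    have hfin : ((Ideal.span {f}).minimalPrimes).Finite :=
      Ideal.finite_minimalPrimes_of_isNoetherianRing _ _
    have hle1 : ∀ p' : Ideal Γ(X, ⊤), p'.IsPrime → f ∈ p' → p' ≤ 𝔭 → p' = 𝔭 := by
      intro p' hp' hfp hle
      refine hle.eq_of_not_lt fun hlt => ?_
      haveI := hp'
      haveI : p'.FiniteHeight := inferInstance
      have h1 := Ideal.height_strict_mono_of_isPrime hlt
      rw [h𝔭1, Order.lt_one_iff, Ideal.height_eq_zero_iff_eq_bot] at h1
      exact hf0 (by rw [h1] at hfp; exact hfp)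
    have hnle : ¬ (hfin.toFinset.filter (· ≠ 𝔭)).inf id ≤ 𝔭 := fun hle => by
      obtain ⟨p', hp', hle'⟩ := (inferInstance : 𝔭.IsPrime).inf_le'.mp hle
      obtain ⟨hp'1, hp'2⟩ := Finset.mem_filter.mp hp'
      have hm := hfin.mem_toFinset.mp hp'1
      exact hp'2 (hle1 p' hm.1.1 (hm.1.2 (Ideal.mem_span_singleton_self f)) hle')
    obtain ⟨s, hs, hsp⟩ := SetLike.not_le_iff_exists.mp hnle
    have hsub : X.basicOpen s ⊓ O ≤ X.basicOpen f := fun y hy => by
      by_contra hyf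
      let r := ((isAffineOpen_top X).primeIdealOf ⟨y, trivial⟩).asIdeal
      have hr : ∀ a : Γ(X, ⊤), y ∈ X.basicOpen a ↔ a ∉ r := fun a => by
        show _ ↔ ((isAffineOpen_top X).primeIdealOf ⟨y, trivial⟩) ∈ PrimeSpectrum.basicOpen a
        rw [← (isAffineOpen_top X).fromSpec_preimage_basicOpen, Scheme.Hom.mem_preimage,
          (isAffineOpen_top X).fromSpec_primeIdealOf]
      have hfr : f ∈ r := not_not.mp fun h' => hyf ((hr f).mpr h')
      obtain ⟨p', hp', hp'r⟩ := Ideal.exists_minimalPrimes_le ((Ideal.span_singleton_le_iff_mem r).mpr hfr)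
      have hp'eq : p' = 𝔭 := by
        by_contra hne
        exact (hr s).mp hy.1 (hp'r (Finset.inf_le (f := id)
          (Finset.mem_filter.mpr ⟨hfin.mem_toFinset.mpr hp', hne⟩) hs))
      refine hnot (Specializes.mem_open ?_ O.2 hy.2)
      rw [specializes_iff_forall_open]
      intro W hW hyW
      obtain ⟨a, haW, hya⟩ := (isAffineOpen_top X).exists_basicOpen_le (V := ⟨W, hW⟩) ⟨y, hyW⟩ trivial
      exact haW ((hyp a).mpr fun ha => (hr a).mp hya (hp'r (hp'eq ▸ ha)))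
    have hu : IsUnit (resO X (le_top : X.basicOpen s ⊓ O ≤ ⊤) f) := by
      have : IsUnit (resO X hsub (resO X (X.basicOpen_le f) f)) := (X.toRingedSpace.isUnit_res_basicOpen f).map _
      rwa [resO_resO] at this
    obtain ⟨g, hg⟩ := (hO (X.basicOpen s)).2 (show Γ(X, X.basicOpen s ⊓ O) from ↑hu.unit⁻¹)
    have hunit : resO X (le_top : X.basicOpen s ≤ ⊤) f * (show Γ(X, X.basicOpen s) from g) = 1 := by
      refine secBij_injective hO ?_
      rw [map_mul, map_one, resO_resO]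
      refine Eq.trans (congrArg _ hg) ?_
      exact hu.mul_val_inv
    have hmem : yp ∈ X.basicOpen s := (hyp s).mpr hsp
    have : yp ∈ X.basicOpen (resO X (le_top : X.basicOpen s ≤ ⊤) f) :=
      (Scheme.mem_basicOpen X _ yp hmem).mpr ((IsUnit.of_mul_eq_one _ hunit).map _)
    rw [Scheme.basicOpen_res] at this
    exact (hyp f).mp this.2 hf
  -- the ideal sheaf of `𝔭` on `O`
  let 𝓘 : (O : Scheme.{u}).IdealSheafData := (Scheme.IdealSheafData.ofIdealTop 𝔭).comap O.ι
  have hideal : ∀ (V' : (O : Scheme.{u}).Opens) (hV' : IsAffineOpen V') (V : X.Opens) (hV : IsAffineOpen V)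
      (e : V' ≤ O.ι ⁻¹ᵁ V), 𝓘.ideal ⟨V', hV'⟩ =
        𝔭.map ((O.ι.appLE V V' e).hom.comp (resO X (le_top : V ≤ ⊤))) := by
    intro V' hV' V hV e
    rw [show 𝓘.ideal ⟨V', hV'⟩ = _ from FittLib.comap_ideal O.ι _ hV hV' e,
      Scheme.IdealSheafData.ofIdealTop_ideal, Ideal.map_map]
  have hψ : ∀ (V' : (O : Scheme.{u}).Opens) (V : X.Opens) (e : V' ≤ O.ι ⁻¹ᵁ V),
      (O.ι.appLE V V' e).hom.comp (resO X (le_top : V ≤ ⊤)) =
        (resO X (le_top : O.ι ''ᵁ V' ≤ ⊤) : Γ(X, ⊤) →+* Γ((O : Scheme.{u}), V')) := by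
    intro V' V e
    rw [Scheme.Opens.ι_appLE]
    exact RingHom.ext fun a => resO_resO _ _ a
  haveI : Nonempty (O : Scheme.{u}) := ⟨⟨yp, hypO⟩⟩
  haveI : IsIntegral (O : Scheme.{u}) := isIntegral_of_isOpenImmersion O.ι
  have heff : BlowUp.IsEffCartierIdeal 𝓘 := fun y => by
    obtain ⟨s₀, hs₀O, hys₀⟩ := (isAffineOpen_top X).exists_basicOpen_le (V := O) y trivial
    letI := (X.presheaf.germ ⊤ y.1 trivial).hom.toAlgebra
    let r := ((isAffineOpen_top X).primeIdealOf ⟨y.1, trivial⟩).asIdeal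
    haveI : IsLocalization.AtPrime (X.presheaf.stalk y.1) r :=
      (isAffineOpen_top X).isLocalization_stalk ⟨y.1, trivial⟩
    have hr : ∀ a : Γ(X, ⊤), y.1 ∈ X.basicOpen a ↔ a ∉ r := fun a => by
      show _ ↔ ((isAffineOpen_top X).primeIdealOf ⟨y.1, trivial⟩) ∈ PrimeSpectrum.basicOpen a
      rw [← (isAffineOpen_top X).fromSpec_preimage_basicOpen, Scheme.Hom.mem_preimage,
        (isAffineOpen_top X).fromSpec_primeIdealOf]
    obtain ⟨e, s, hsr, hse, hdiv, he0⟩ : ∃ (e s : Γ(X, ⊤)), s ∉ r ∧ s * e ∈ 𝔭 ∧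
        (∀ p ∈ 𝔭, s * p ∈ Ideal.span {e}) ∧ e ≠ 0 := by
      by_cases hle : 𝔭 ≤ r
      · haveI := h y.1 y.2
        have hdisj : Disjoint (r.primeCompl : Set Γ(X, ⊤)) (𝔭 : Set Γ(X, ⊤)) :=
          Set.disjoint_left.mpr fun a ha ha' => ha (hle ha')
        haveI hPy : (𝔭.map (algebraMap Γ(X, ⊤) (X.presheaf.stalk y.1))).IsPrime :=
          IsLocalization.isPrime_of_isPrime_disjoint r.primeCompl _ 𝔭 inferInstance hdisj
        have hcom := IsLocalization.comap_map_of_isPrime_disjoint r.primeCompl (X.presheaf.stalk y.1)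
          (inferInstance : 𝔭.IsPrime) hdisj
        have hh : (𝔭.map (algebraMap Γ(X, ⊤) (X.presheaf.stalk y.1))).height = 1 := by
          refine (IsLocalization.height_under r.primeCompl _).symm.trans ?_
          rw [hcom]; exact h𝔭1
        obtain ⟨g, hg⟩ := UniqueFactorizationMonoid.isPrincipal_of_height_eq_one hh
        obtain ⟨⟨e, t⟩, het⟩ := IsLocalization.surj r.primeCompl g
        dsimp only at het
        have hu := IsLocalization.map_units (X.presheaf.stalk y.1) t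
        have hge : 𝔭.map (algebraMap Γ(X, ⊤) (X.presheaf.stalk y.1)) =
            Ideal.span {algebraMap Γ(X, ⊤) (X.presheaf.stalk y.1) e} := by
          rw [← het, Ideal.span_singleton_mul_right_unit hu]
          exact hg
        have hem : e ∈ 𝔭 := by
          rw [← hcom, Ideal.mem_comap, hge]
          exact Ideal.mem_span_singleton_self _
        have hex : ∀ p ∈ 𝔭, ∃ s ∉ r, s * p ∈ Ideal.span {e} := by
          intro p hp
          have : algebraMap Γ(X, ⊤) (X.presheaf.stalk y.1) p ∈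
              (Ideal.span {e}).map (algebraMap Γ(X, ⊤) (X.presheaf.stalk y.1)) := by
            rw [Ideal.map_span, Set.image_singleton, ← hge]
            exact Ideal.mem_map_of_mem _ hp
          exact (IsLocalization.algebraMap_mem_map_algebraMap_iff r.primeCompl _ _ _).mp this
        obtain ⟨T, hT⟩ := (inferInstance : IsNoetherianRing Γ(X, ⊤)).noetherian 𝔭
        choose! sf hsf1 hsf2 using hex
        have hT' : ∀ p ∈ T, p ∈ 𝔭 := fun p hp => hT ▸ Submodule.subset_span hp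
        refine ⟨e, ∏ p ∈ T, sf p, ?_, 𝔭.mul_mem_left _ hem, fun p hp => ?_, fun he => ?_⟩
        · exact r.primeCompl.prod_mem fun p hp => hsf1 p (hT' p hp)
        · have : 𝔭 ≤ Submodule.comap (LinearMap.mulLeft Γ(X, ⊤) (∏ p ∈ T, sf p)) (Ideal.span {e}) := by
            rw [← hT, Submodule.span_le]
            intro p hp
            show (∏ p ∈ T, sf p) * p ∈ Ideal.span {e}
            rw [← Finset.prod_erase_mul _ _ hp, mul_assoc]
            exact Ideal.mul_mem_left _ _ (hsf2 p (hT' p hp))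
          exact this hp
        · refine h𝔭0 (eq_bot_iff.mpr ?_)
          rw [← hcom, hge, he, map_zero, Ideal.span_singleton_zero]
          intro a ha
          exact germ_injective_of_isIntegral (U := (⊤ : X.Opens)) X y.1 trivial ((Ideal.mem_bot.mp ha).trans (map_zero _).symm)
      · obtain ⟨s, hs, hsr⟩ := SetLike.not_le_iff_exists.mp hle
        exact ⟨1, s, hsr, by rwa [mul_one], fun p _ => by rw [Ideal.span_singleton_one]; trivial, one_ne_zero⟩
    let V : X.Opens := X.basicOpen (s * s₀)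
    have hV : IsAffineOpen V := (isAffineOpen_top X).basicOpen _
    have hVO : V ≤ O := (X.basicOpen_mul s s₀).le.trans (inf_le_right.trans hs₀O)
    have hV' : IsAffineOpen (O.ι ⁻¹ᵁ V) :=
      hV.preimage_of_isOpenImmersion O.ι (by rw [Scheme.Opens.opensRange_ι]; exact hVO)
    have hyV : y ∈ O.ι ⁻¹ᵁ V := by
      show y.1 ∈ X.basicOpen (s * s₀)
      rw [X.basicOpen_mul]; exact ⟨(hr s).mpr hsr, hys₀⟩
    refine ⟨⟨_, hV'⟩, hyV, ?_⟩
    let ψ : Γ(X, ⊤) →+* Γ((O : Scheme.{u}), O.ι ⁻¹ᵁ V) := resO X (le_top : O.ι ''ᵁ (O.ι ⁻¹ᵁ V) ≤ ⊤)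
    haveI : Nonempty (O.ι ⁻¹ᵁ V) := ⟨⟨y, hyV⟩⟩
    haveI : IsDomain Γ((O : Scheme.{u}), O.ι ⁻¹ᵁ V) := inferInstance
    haveI : Nonempty (O.ι ''ᵁ (O.ι ⁻¹ᵁ V)) := ⟨⟨y.1, ⟨y, hyV, rfl⟩⟩⟩
    have hψu : IsUnit (ψ s) := by
      have hle : O.ι ''ᵁ (O.ι ⁻¹ᵁ V) ≤ X.basicOpen s :=
        (O.ι.image_preimage_le V).trans ((X.basicOpen_mul s s₀).le.trans inf_le_left)
      have : IsUnit (resO X hle (resO X (X.basicOpen_le s) s)) := (X.toRingedSpace.isUnit_res_basicOpen s).map _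
      rwa [resO_resO] at this
    refine ⟨ψ e, mem_nonZeroDivisors_of_ne_zero fun h0 => he0 ?_, ?_⟩
    · exact map_injective_of_isIntegral X (homOfLE (le_top : O.ι ''ᵁ (O.ι ⁻¹ᵁ V) ≤ ⊤))
        (h0.trans (map_zero _).symm)
    · rw [hideal _ hV' V hV le_rfl, hψ]
      refine le_antisymm (Ideal.map_le_iff_le_comap.mpr fun p hp => ?_) ?_
      · rw [Ideal.mem_comap, Ideal.mem_span_singleton]
        have := Ideal.mem_span_singleton.mp (hdiv p hp)
        obtain ⟨c, hc⟩ := this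
        refine (hψu.dvd_mul_left).mp ?_
        rw [← map_mul, hc, map_mul]
        exact dvd_mul_right _ _
      · rw [Ideal.span_singleton_le_iff_mem]
        exact (Ideal.unit_mul_mem_iff_mem _ hψu).mp (by rw [← map_mul]; exact Ideal.mem_map_of_mem _ hse)
  -- a generator
  obtain ⟨D₁, σ₁, hxD₁, hσ₁⟩ := hL (ClSub.idealMod 𝓘) ((Groth.Agent.S8914.result 𝓘).mpr heff)
  obtain ⟨d, hdD, hxd⟩ := (isAffineOpen_top X).exists_basicOpen_le (V := D₁) ⟨x, hxD₁⟩ trivial
  let D := X.basicOpen d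
  have hle : O.ι ⁻¹ᵁ D ≤ O.ι ⁻¹ᵁ D₁ := fun y hy => hdD hy
  let σ := res (ClSub.idealMod 𝓘) hle σ₁
  have hσ : IsGen σ := hσ₁.res hle
  let g : Γ((O : Scheme.{u}), O.ι ⁻¹ᵁ D) := (ClSub.idealModι 𝓘).app _ σ
  have hDO : O.ι ''ᵁ (O.ι ⁻¹ᵁ D) = D ⊓ O := by
    rw [Scheme.Hom.image_preimage_eq_opensRange_inf, Scheme.Opens.opensRange_ι, inf_comm]
  have hbij : Function.Bijective (resO X (O.ι.image_preimage_le D)) :=
    (bijective_res_congr (M := Coh.structureModule X) hDO (O.ι.image_preimage_le D) inf_le_left).mpr (hO D)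
  obtain ⟨G, hG⟩ := hbij.2 g
  -- multiples
  have hmult : ∀ f ∈ 𝔭, ∃ c : Γ(X, D), resO X (le_top : D ≤ ⊤) f = c * G := by
    intro f hf
    obtain ⟨m, hm⟩ := mem_range_idealMod_of_locally 𝓘
      (show Γ((O : Scheme.{u}), O.ι ⁻¹ᵁ D) from resO X (le_top : O.ι ''ᵁ (O.ι ⁻¹ᵁ D) ≤ ⊤) f) fun y hy => by
      obtain ⟨W₀, hWa, hyW, hWle⟩ :=
        (TopologicalSpace.Opens.isBasis_iff_nbhd.mp (O : Scheme.{u}).isBasis_affineOpens) hy
      let W : (O : Scheme.{u}).affineOpens := ⟨W₀, hWa⟩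
      refine ⟨W, hWle, hyW, ?_⟩
      rw [hideal W.1 W.2 ⊤ (isAffineOpen_top X) (fun z _ => trivial), hψ]
      show resO X (O.ι.image_mono hWle) (resO X _ f) ∈ _
      rw [resO_resO]
      exact Ideal.mem_map_of_mem _ hf
    obtain ⟨c, hc⟩ := (hσ _ le_rfl).2 m
    obtain ⟨c', hc'⟩ := hbij.2 (show Γ(X, O.ι ''ᵁ (O.ι ⁻¹ᵁ D)) from c)
    refine ⟨c', hbij.1 ?_⟩
    rw [resO_resO, map_mul, hc', hG]
    refine hm.symm.trans ?_
    rw [← hc]
    refine (Scheme.Modules.Hom.app_smul (ClSub.idealModι 𝓘) c _).trans ?_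
    rw [res_self]
    rfl
  -- the generator vanishes at `𝔭`
  have hGp : yp ∈ D → yp ∉ X.basicOpen G := by
    intro hyD hyG
    obtain ⟨W₀, hWa, hyW, hWle⟩ :=
      (TopologicalSpace.Opens.isBasis_iff_nbhd.mp (O : Scheme.{u}).isBasis_affineOpens) (show (⟨yp, hypO⟩ : O) ∈ O.ι ⁻¹ᵁ D from hyD)
    let W : (O : Scheme.{u}).affineOpens := ⟨W₀, hWa⟩
    have h1 : resO (O : Scheme.{u}) hWle g ∈ 𝓘.ideal W :=
      (Groth.Agent.QC.mem_range_idealModι_affine 𝓘 W _).mp ⟨_, (app_res (ClSub.idealModι 𝓘) hWle σ).symm⟩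
    rw [hideal W.1 W.2 ⊤ (isAffineOpen_top X) (fun z _ => trivial), hψ] at h1
    have hyW' : yp ∈ O.ι ''ᵁ W.1 := ⟨⟨yp, hypO⟩, hyW, rfl⟩
    let γ := (X.presheaf.germ (O.ι ''ᵁ W.1) yp hyW').hom
    have h2 : 𝔭.map (resO X (le_top : O.ι ''ᵁ W.1 ≤ ⊤)) ≤ (IsLocalRing.maximalIdeal _).comap γ := by
      rw [Ideal.map_le_iff_le_comap]
      intro b hb
      show γ (resO X _ b) ∈ IsLocalRing.maximalIdeal _
      rw [IsLocalRing.mem_maximalIdeal, mem_nonunits_iff,
        show γ (resO X (le_top : O.ι ''ᵁ W.1 ≤ ⊤) b) = X.presheaf.germ ⊤ yp trivial b from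
          X.presheaf.germ_res_apply _ yp hyW' b, ← Scheme.mem_basicOpen]
      exact fun h' => (hyp b).mp h' hb
    have h3 : γ (resO X (O.ι.image_mono hWle) (show Γ(X, O.ι ''ᵁ (O.ι ⁻¹ᵁ D)) from g)) ∈
        IsLocalRing.maximalIdeal _ := h2 h1
    rw [← hG, resO_resO, IsLocalRing.mem_maximalIdeal, mem_nonunits_iff,
      show γ (resO X ((O.ι.image_mono hWle).trans (O.ι.image_preimage_le D)) G) =
        X.presheaf.germ D yp hyD G from X.presheaf.germ_res_apply _ yp hyW' G, ← Scheme.mem_basicOpen] at h3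
    exact h3 hyG
  haveI := (isAffineOpen_top X).isLocalization_basicOpen d
  obtain ⟨n, a, hGa⟩ := IsLocalization.Away.surj d G
  have hdq : d ∉ q := by
    have : ((isAffineOpen_top X).primeIdealOf ⟨x, trivial⟩) ∈ PrimeSpectrum.basicOpen d := by
      rw [← (isAffineOpen_top X).fromSpec_preimage_basicOpen, Scheme.Hom.mem_preimage,
        (isAffineOpen_top X).fromSpec_primeIdealOf]
      exact hxd
    exact this
  have hdp : d ∉ 𝔭 := fun hd => hdq (by
    have : algebraMap _ (X.presheaf.stalk x) d ∈ IsLocalRing.maximalIdeal (X.presheaf.stalk x) :=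
      IsLocalRing.le_maximalIdeal hPp.ne_top hd
    exact (IsLocalization.AtPrime.to_map_mem_maximal_iff _ q d).mp this)
  have hap : a ∈ 𝔭 := by
    by_contra hc
    refine hGp ((hyp d).mpr hdp) ?_
    have h1 : yp ∈ X.basicOpen (resO X (le_top : D ≤ ⊤) a) := by
      rw [Scheme.basicOpen_res]; exact ⟨(hyp d).mpr hdp, (hyp a).mpr hc⟩
    rw [show resO X (le_top : D ≤ ⊤) a = G * resO X (le_top : D ≤ ⊤) d ^ n from hGa.symm,
      Scheme.basicOpen_mul] at h1
    exact h1.1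
  refine ⟨X.presheaf.germ D x hxd G, le_antisymm (fun z hz => ?_) ?_⟩
  · obtain ⟨⟨f, t⟩, hft⟩ := IsLocalization.surj q.primeCompl z
    have hf : f ∈ 𝔭 := by
      show algebraMap _ _ f ∈ P
      rw [← hft]; exact P.mul_mem_right _ hz
    obtain ⟨c, hc⟩ := hmult f hf
    have hc' := congrArg (X.presheaf.germ D x hxd) hc
    rw [map_mul, show X.presheaf.germ D x hxd (resO X (le_top : D ≤ ⊤) f) = algebraMap _ _ f from
      X.presheaf.germ_res_apply _ x hxd f] at hc'
    refine Ideal.mem_span_singleton.mpr ((IsLocalization.map_units _ t).dvd_mul_right.mp ?_)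
    rw [hft, hc']
    exact dvd_mul_left _ _
  · rw [Submodule.span_le, Set.singleton_subset_iff, SetLike.mem_coe]
    have h2 := congrArg (X.presheaf.germ D x hxd) hGa
    rw [map_mul, map_pow] at h2
    have hu : IsUnit (algebraMap Γ(X, ⊤) (X.presheaf.stalk x) d ^ n) :=
      (IsLocalization.map_units _ (⟨d, hdq⟩ : q.primeCompl)).pow n
    refine (Ideal.mul_unit_mem_iff_mem _ hu).mp ?_
    rw [show algebraMap Γ(X, ⊤) (X.presheaf.stalk x) d = X.presheaf.germ D x hxd (resO X (le_top : D ≤ ⊤) d) from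
      (X.presheaf.germ_res_apply _ x hxd d).symm]
    refine (congrArg (· ∈ P) (h2.trans (X.presheaf.germ_res_apply _ x hxd a))).mpr hap

end Groth.Agent.ParaFLib
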