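import Mathlib
import Groth.Agent.ParaFLib.Ufd
import Groth.Agent.RefStalk.Codim
import Groth.Agent.RefStalk.Refl
import Groth.Agent.Purity.DepthRestrict
import Groth.Agent.S2827

/-!
# Depth and parafactoriality give the hypotheses of the factoriality criterion
-/

universe u

open CategoryTheory AlgebraicGeometry TopologicalSpace Opposite
open Groth.Agent.QC (res resO res_self)
open TMul (IsGen)

set_option backward.isDefEq.respectTransparency false

noncomputable section

namespace Groth.Agent.ParaFLib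

variable {X : Scheme.{u}}

theorem secBij_of_depth [IsLocallyNoetherian X] (O : X.Opens)
    (h : ∀ x : X, x ∉ O → (2 : ℕ∞) ≤ LocCoh.depth (X.presheaf.stalk x) (X.presheaf.stalk x)) :
    SecBij O (Coh.structureModule X) := fun V => by
  refine Groth.Agent.RefStalk.bijective_rs_of_depth (Groth.Agent.RefStalk.isCoh_structureModule) inf_le_left
    fun x hx hx' => ?_
  obtain ⟨e, -⟩ := Groth.Agent.RefStalk.exists_structStalk (X := X) x
  refine (h x fun hO => hx' ⟨hx, hO⟩).trans_eq ?_
  rw [LocCoh.depth, LocCoh.depth]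
  exact LocH.idealDepth_congr e _

/-- Trivial Picard group gives generators. -/
theorem exists_gen_of_picTrivial {O : X.Opens} (h : ParaF.PicTrivial (O : Scheme.{u}))
    (L : (O : Scheme.{u}).Modules) (hL : PicF.IsInvertible L) (x : X) :
    ∃ (D : X.Opens) (σ : Γ(L, O.ι ⁻¹ᵁ D)), x ∈ D ∧ IsGen σ := by
  obtain ⟨φ⟩ := h L hL
  refine ⟨⊤, _, trivial, isGen_iso φ.symm (U := O.ι ⁻¹ᵁ (⊤ : X.Opens))
    (e := res (Coh.structureModule (O : Scheme.{u})) le_top (oneSec _ ⊤)) ?_⟩
  exact TMul.IsGen.res (fun W hW => isGen_one _ W hW) le_top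

/-- Parafactoriality gives generators. -/
theorem exists_gen_of_pair (Y : Closeds X) (h : ParaF.IsParafactorialPair X Y)
    (L : (Y.compl : Scheme.{u}).Modules) (hL : PicF.IsInvertible L) (x : X) :
    ∃ (D : X.Opens) (σ : Γ(L, (Scheme.Opens.ι Y.compl) ⁻¹ᵁ D)), x ∈ D ∧ IsGen σ := by
  have e : (⊤ : X.Opens) ⊓ Y.compl = Y.compl := top_inf_eq _
  have hj : ParaF.InvRestrictEquiv (Scheme.Opens.ι Y.compl) := by
    refine invRestrictEquiv_of_square _ _ (X.isoOfEq e.symm).hom X.topIso.inv ?_ (h ⊤)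
    rw [← cancel_mono (⊤ : X.Opens).ι, Category.assoc, Scheme.toIso_inv_ι, Category.comp_id,
      Category.assoc, Scheme.homOfLE_ι, Scheme.isoOfEq_hom_ι]
  obtain ⟨M, hM, ⟨φ⟩⟩ := hj.2 L hL
  exact exists_gen_of_extends hM φ x

lemma stalk_equiv_of_opens (W : X.Opens) (x : W) :
    Nonempty ((W : Scheme.{u}).presheaf.stalk x ≃+* X.presheaf.stalk x.1) :=
  ⟨(W.stalkIso x).commRingCatIsoToRingEquiv⟩

theorem isLocallyFactorial_of_pair [IsLocallyNoetherian X] (Y : Closeds X) (h : ParaF.IsParafactorialPair X Y)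
    (hU : ∀ x : X, x ∉ Y → IsDomain (X.presheaf.stalk x) ∧ UniqueFactorizationMonoid (X.presheaf.stalk x)) :
    ParaF.IsLocallyFactorial X := by
  intro x
  by_cases hx : x ∈ Y
  swap
  · exact hU x hx
  obtain ⟨W, hW, hxW, -⟩ := exists_isAffineOpen_mem_and_subset (x := x) (U := (⊤ : X.Opens)) trivial
  haveI : IsAffine (W : Scheme.{u}) := hW
  have hW' := Groth.Agent.S2827.result X Y h W
  have hdom : ∀ y : W, y ∈ (ParaF.closedsIn W Y).compl → IsDomain ((W : Scheme.{u}).presheaf.stalk y) := fun y hy => by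
    haveI := (hU y.1 hy).1
    exact (W.stalkIso y).commRingCatIsoToRingEquiv.toMulEquiv.isDomain _
  obtain ⟨d, hxd, hd⟩ := isDomain_nhd (secBij_of_isParafactorialPair _ hW') hdom ⟨x, hxW⟩
  let W₂ := (W : Scheme.{u}).basicOpen d
  haveI : IsAffine (W₂ : Scheme.{u}) := (isAffineOpen_top (W : Scheme.{u})).basicOpen d
  haveI : Nonempty (W₂ : Scheme.{u}) := ⟨⟨⟨x, hxW⟩, hxd⟩⟩
  haveI : IsDomain Γ((W₂ : Scheme.{u}), ⊤) := by
    haveI := hd
    exact (W₂.topIso.commRingCatIsoToRingEquiv).toMulEquiv.isDomain _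
  haveI : IsIntegral (W₂ : Scheme.{u}) := isIntegral_of_isAffine_of_isDomain _
  have h2 := Groth.Agent.S2827.result (W : Scheme.{u}) _ hW' W₂
  have hufd : ∀ y : W₂, y ∈ (ParaF.closedsIn W₂ (ParaF.closedsIn W Y)).compl →
      UniqueFactorizationMonoid ((W₂ : Scheme.{u}).presheaf.stalk y) := fun y hy => by
    haveI := (hU y.1.1 hy).1
    exact MulEquiv.uniqueFactorizationMonoid
      ((W₂.stalkIso y).commRingCatIsoToRingEquiv.trans (W.stalkIso y.1).commRingCatIsoToRingEquiv).symm.toMulEquiv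
      (hU y.1.1 hy).2
  let x' : W₂ := ⟨⟨x, hxW⟩, hxd⟩
  have e := (W₂.stalkIso x').commRingCatIsoToRingEquiv.trans (W.stalkIso ⟨x, hxW⟩).commRingCatIsoToRingEquiv
  exact ⟨e.symm.toMulEquiv.isDomain _, MulEquiv.uniqueFactorizationMonoid e.toMulEquiv
    (ufd_stalk (secBij_of_isParafactorialPair _ h2) hufd x' fun L hL => exists_gen_of_pair _ h2 L hL x')⟩

/-- The stalk of `Spec A` at the closed point. -/
def closedStalkEquiv (A : Type u) [CommRing A] [IsLocalRing A] :
    A ≃+* (Spec (CommRingCat.of A)).presheaf.stalk (IsLocalRing.closedPoint A) :=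
  haveI : IsLocalization.AtPrime A (IsLocalRing.maximalIdeal A) := IsLocalization.of_le_isUnit fun s hs =>
    IsLocalRing.notMem_maximalIdeal.1 hs
  haveI : IsLocalization.AtPrime ((Spec.structureSheaf A).presheaf.stalk (IsLocalRing.closedPoint A))
      (IsLocalRing.maximalIdeal A) :=
    inferInstanceAs (IsLocalization.AtPrime ((Spec.structureSheaf A).presheaf.stalk (IsLocalRing.closedPoint A))
      (IsLocalRing.closedPoint A).asIdeal)
  (IsLocalization.algEquiv (IsLocalRing.maximalIdeal A).primeCompl A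
    ((Spec.structureSheaf A).presheaf.stalk (IsLocalRing.closedPoint A))).toRingEquiv

lemma notMem_punctured {A : Type u} [CommRing A] [IsLocalRing A] {x : Spec (CommRingCat.of A)}
    (h : x ∉ FEt.puncturedSpec A) : x = IsLocalRing.closedPoint A :=
  not_not.mp h

theorem secBij_punctured (A : Type u) [CommRing A] [IsNoetherianRing A] [IsLocalRing A]
    (h : (2 : ℕ∞) ≤ LocCoh.depth A A) :
    SecBij (FEt.puncturedSpec A) (Coh.structureModule (Spec (CommRingCat.of A))) :=
  secBij_of_depth _ fun x hx => by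
    obtain rfl := notMem_punctured hx
    rw [Groth.Agent.Purity.depth_stalk_closedPoint]
    exact h

theorem ufd_stalk_spec (A : Type u) [CommRing A] [IsDomain A] [UniqueFactorizationMonoid A]
    (y : Spec (CommRingCat.of A)) :
    IsDomain ((Spec (CommRingCat.of A)).presheaf.stalk y) ∧
      UniqueFactorizationMonoid ((Spec (CommRingCat.of A)).presheaf.stalk y) := by
  let p : PrimeSpectrum A := y
  haveI : IsLocalization.AtPrime ((Spec.structureSheaf A).presheaf.stalk p) p.asIdeal := inferInstance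
  exact ⟨(IsLocalization.isDomain_of_le_nonZeroDivisors ((Spec.structureSheaf A).presheaf.stalk p) p.asIdeal.primeCompl_le_nonZeroDivisors :
      IsDomain ((Spec.structureSheaf A).presheaf.stalk p)),
    (UniqueFactorizationMonoid.of_isLocalization p.asIdeal.primeCompl ((Spec.structureSheaf A).presheaf.stalk p) :
      UniqueFactorizationMonoid ((Spec.structureSheaf A).presheaf.stalk p))⟩

theorem ufd_of_punctured (A : Type u) [CommRing A] [IsNoetherianRing A] [IsLocalRing A]
    (hd : (2 : ℕ∞) ≤ LocCoh.depth A A) (hp : ParaF.PicTrivial (FEt.puncturedSpec A : Scheme.{u}))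
    (hU : ∀ y : ↥(Spec (CommRingCat.of A)), y ∈ FEt.puncturedSpec A →
      IsDomain ((Spec (CommRingCat.of A)).presheaf.stalk y) ∧
        UniqueFactorizationMonoid ((Spec (CommRingCat.of A)).presheaf.stalk y)) :
    IsDomain A ∧ UniqueFactorizationMonoid A := by
  haveI : IsNoetherianRing (CommRingCat.of A) := ‹IsNoetherianRing A›
  have hO := secBij_punctured A hd
  obtain ⟨d, hxd, hd⟩ := isDomain_nhd hO (fun y hy => (hU y hy).1) (IsLocalRing.closedPoint A)
  have htop : (Spec (CommRingCat.of A)).basicOpen d = ⊤ := Opens.ext (Set.eq_univ_of_forall fun y =>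
    (IsLocalRing.specializes_closedPoint (y : PrimeSpectrum A)).mem_open
      ((Spec (CommRingCat.of A)).basicOpen d).2 hxd)
  rw [htop] at hd
  haveI : IsDomain A :=
    (Scheme.ΓSpecIso (CommRingCat.of A)).symm.commRingCatIsoToRingEquiv.toMulEquiv.isDomain _
  exact ⟨inferInstance, MulEquiv.uniqueFactorizationMonoid (closedStalkEquiv A).symm.toMulEquiv
    (ufd_stalk hO (fun y hy => (hU y hy).2) _ fun L hL => exists_gen_of_picTrivial hp L hL _)⟩

theorem two_le_depth_of_normal (A : Type u) [CommRing A] [IsDomain A] [IsNoetherianRing A] [IsLocalRing A]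
    [IsIntegrallyClosed A] (hdim : (2 : WithBot ℕ∞) ≤ ringKrullDim A) : (2 : ℕ∞) ≤ LocCoh.depth A A :=
  Catenary.two_le_depth_of_normal (Groth.Agent.RefStalk.two_le_iff.1 hdim)

end Groth.Agent.ParaFLib
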